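import Mathlib
import Cfsg.Prelude.Def_GeometricClasses
import Cfsg.Agent.Lib.Helper27.ASC.Defs
import Cfsg.Agent.Lib.Helper19.ASG.Defs
import Cfsg.Agent.Lib.Helper19.ASU.Defs

/-!
# Project ASU, block C (sub-leader helper26) : shared definitions

* `UKrGram q e P A B` : in the Kronecker basis `(e, P)` the Gram matrix of `hermForm n F q` is `A ⊗ₖ B`
  (sesquilinear twin of helper8's `KrGram` of ASP block C);
* `ucJ` : the alternating matrix `!![0, 1; -1, 0]`;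
* `ucKr e P M` : the matrix `P R(M) P⁻¹`, `R = Matrix.reindexAlgEquiv F F e.symm` (shorthand for statements).
-/

set_option autoImplicit false

namespace Cfsg.Agent.Lib.Helper19.ASU

open Cfsg Cfsg.Geo Cfsg.Agent.Lib.Helper27.ASC Cfsg.Agent.Lib.Helper19.ASG
open scoped MatrixGroups Matrix Kronecker

variable {n : ℕ} {F : Type*} [Field F]

/-- in the Kronecker basis `(e, P)` the Gram matrix of `hermForm n F q` is `A ⊗ₖ B` -/
def UKrGram (q : ℕ) {k d : ℕ} (e : Fin n ≃ Fin k × Fin d) (P : GL (Fin n) F)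
    (A : Matrix (Fin k) (Fin k) F) (B : Matrix (Fin d) (Fin d) F) : Prop :=
  ∀ x y : Fin k × Fin d → F,
    hermForm n F q ((P : Matrix (Fin n) (Fin n) F) *ᵥ (x ∘ e)) ((P : Matrix (Fin n) (Fin n) F) *ᵥ (y ∘ e)) =
      formOfGram (fun a : F => a ^ q) (A ⊗ₖ B) x y

/-- the alternating matrix `!![0, 1; -1, 0]` -/
def ucJ : Matrix (Fin 2) (Fin 2) F := !![0, 1; -1, 0]

/-- `P R(M) P⁻¹` with `R = Matrix.reindexAlgEquiv F F e.symm` -/
def ucKr {k d : ℕ} (e : Fin n ≃ Fin k × Fin d) (P : GL (Fin n) F)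
    (M : Matrix (Fin k × Fin d) (Fin k × Fin d) F) : Matrix (Fin n) (Fin n) F :=
  (P : Matrix (Fin n) (Fin n) F) * Matrix.reindexAlgEquiv F F e.symm M *
    ((P⁻¹ : GL (Fin n) F) : Matrix (Fin n) (Fin n) F)

theorem ucKr_def {k d : ℕ} (e : Fin n ≃ Fin k × Fin d) (P : GL (Fin n) F)
    (M : Matrix (Fin k × Fin d) (Fin k × Fin d) F) :
    ucKr e P M = (P : Matrix (Fin n) (Fin n) F) * Matrix.reindexAlgEquiv F F e.symm M *
      ((P⁻¹ : GL (Fin n) F) : Matrix (Fin n) (Fin n) F) := rfl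

theorem ucJ_def : (ucJ : Matrix (Fin 2) (Fin 2) F) = !![0, 1; -1, 0] := rfl

end Cfsg.Agent.Lib.Helper19.ASU
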